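/-
Algebraisation of quotients `C = B^/J` of an `I`-adic completion with `J/J²` killed by a power of `I`.
-/
import Groth.Agent.Lib.AdicExtra.Completion
import Mathlib.RingTheory.Flat.EquationalCriterion
import Mathlib.RingTheory.Filtration
import Mathlib.RingTheory.FiniteType
import Mathlib.RingTheory.Localization.Away.Basic
import Mathlib.RingTheory.Ideal.Quotient.Operations
import Mathlib.LinearAlgebra.Matrix.Charpoly.LinearMap

set_option autoImplicit false

namespace GrothLib.ComplAlg

universe u

open Polynomial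

/-- `B'` behaves like the completion of `B` along `a`. -/
structure IsFormalCompl (B : Type u) [CommRing B] (B' : Type u) [CommRing B'] [Algebra B B']
    (a : Ideal B) : Prop where
  flat : Module.Flat B B'
  surj : ∀ (n : ℕ) (x : B'), ∃ b : B, x - algebraMap B B' b ∈ (a ^ n).map (algebraMap B B')
  inj : ∀ (n : ℕ) (b : B), algebraMap B B' b ∈ (a ^ n).map (algebraMap B B') → b ∈ a ^ n

variable {B : Type u} [CommRing B] {B' : Type u} [CommRing B'] [Algebra B B'] {a : Ideal B}
  {κ : Type} [Fintype κ] {g : κ → B}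

lemma mem_map_span_range {x : B'} :
    x ∈ (Ideal.span (Set.range g)).map (algebraMap B B') ↔
      ∃ z : κ → B', ∑ k, z k * algebraMap B B' (g k) = x := by
  rw [Ideal.map_span, ← Set.range_comp, Ideal.mem_span_range_iff_exists_fun]
  rfl

/-- Systems `c` with `g_l c_k = g_k c_l` come from `B` up to a multiple of `g`. -/
theorem exists_sub_mem_range (h : IsFormalCompl B B' a) {m : ℕ}
    (hm : a ^ m ≤ Ideal.span (Set.range g)) (c : κ → B')
    (hc : ∀ k l, algebraMap B B' (g l) * c k = algebraMap B B' (g k) * c l) :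
    ∃ b' : B', ∀ k, c k - algebraMap B B' (g k) * b' ∈ (algebraMap B B').range := by
  classical
  haveI := h.flat
  let x : (κ → B) →ₗ[B] B' := Fintype.linearCombination B c
  let f : (κ × κ → B) →ₗ[B] (κ → B) :=
    Fintype.linearCombination B fun kl => Pi.single kl.1 (g kl.2) - Pi.single kl.2 (g kl.1)
  have hxf : x ∘ₗ f = 0 := by
    refine LinearMap.ext fun w => ?_
    simp only [LinearMap.comp_apply, f, Fintype.linearCombination_apply, map_sum, map_smul, map_sub,
      LinearMap.zero_apply]
    refine Finset.sum_eq_zero fun kl _ => ?_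
    rw [Fintype.linearCombination_apply_single, Fintype.linearCombination_apply_single]
    simp [Algebra.smul_def, hc kl.1 kl.2]
  obtain ⟨n, A, y, hxy, hAf⟩ := Module.Flat.exists_factorization_of_comp_eq_zero_of_free hxf
  let A' : κ → Fin n → B := fun k j => A (Pi.single k 1) j
  have hA : ∀ k l j, g l * A' k j = g k * A' l j := by
    intro k l j
    have := LinearMap.congr_fun hAf (Pi.single (k, l) 1)
    simp only [LinearMap.comp_apply, f, Fintype.linearCombination_apply_single, one_smul, map_sub,
      LinearMap.zero_apply] at this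
    rw [← mul_one (g l), ← mul_one (g k), ← smul_eq_mul (g l) (1 : B), ← smul_eq_mul (g k) (1 : B),
      Pi.single_smul', Pi.single_smul', map_smul, map_smul, sub_eq_zero] at this
    simpa [A'] using DFunLike.congr_fun this j
  have hck : ∀ k, c k = ∑ j, algebraMap B B' (A' k j) * y (Finsupp.single j 1) := by
    intro k
    have h1 : c k = y (A (Pi.single k 1)) := by
      rw [← LinearMap.comp_apply, ← hxy]
      simp [x, Fintype.linearCombination_apply_single]
    rw [h1, ← Finsupp.univ_sum_single (A (Pi.single k 1)), map_sum]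
    refine Finset.sum_congr rfl fun j _ => ?_
    rw [← Finsupp.smul_single_one, map_smul, Algebra.smul_def]
  have hy : ∀ j, ∃ (b : B) (z : κ → B'),
      algebraMap B B' b + ∑ l, z l * algebraMap B B' (g l) = y (Finsupp.single j 1) := by
    intro j
    obtain ⟨b, hb⟩ := h.surj m (y (Finsupp.single j 1))
    obtain ⟨z, hz⟩ := mem_map_span_range.mp (Ideal.map_mono hm hb)
    exact ⟨b, z, by rw [hz]; ring⟩
  choose b z hbz using hy
  refine ⟨∑ j, ∑ l, z j l * algebraMap B B' (A' l j), fun k => ⟨∑ j, A' k j * b j, ?_⟩⟩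
  rw [hck k, map_sum, eq_sub_iff_add_eq, Finset.mul_sum, ← Finset.sum_add_distrib]
  refine Finset.sum_congr rfl fun j _ => ?_
  rw [← hbz j, mul_add, map_mul, Finset.mul_sum, Finset.mul_sum]
  congr 1
  refine Finset.sum_congr rfl fun l _ => ?_
  have := congrArg (algebraMap B B') (hA k l j)
  rw [map_mul, map_mul] at this
  linear_combination (-(z j l)) * this

/-- `g`-torsion elements of `B'` come from `B`. -/
theorem mem_range_of_mul_eq_zero (h : IsFormalCompl B B' a) {m : ℕ}
    (hm : a ^ m ≤ Ideal.span (Set.range g)) {x : B'} (hx : ∀ k, algebraMap B B' (g k) * x = 0) :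
    x ∈ (algebraMap B B').range := by
  classical
  haveI := h.flat
  let f : (κ → B) →ₗ[B] B := Fintype.linearCombination B g
  have hxf : LinearMap.toSpanSingleton B B' x ∘ₗ f = 0 := by
    refine LinearMap.ext fun w => ?_
    simp only [LinearMap.comp_apply, f, Fintype.linearCombination_apply, map_sum, map_smul,
      LinearMap.toSpanSingleton_apply, LinearMap.zero_apply]
    exact Finset.sum_eq_zero fun k _ => by rw [Algebra.smul_def (g k), hx k, smul_zero]
  obtain ⟨n, A, y, hxy, hAf⟩ := Module.Flat.exists_factorization_of_comp_eq_zero_of_free hxf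
  have hA : ∀ k j, g k * A 1 j = 0 := by
    intro k j
    have := LinearMap.congr_fun hAf (Pi.single k 1)
    simp only [LinearMap.comp_apply, f, Fintype.linearCombination_apply_single, one_smul,
      LinearMap.zero_apply] at this
    rw [← mul_one (g k), ← smul_eq_mul, map_smul] at this
    simpa using DFunLike.congr_fun this j
  have h1 : x = ∑ j, algebraMap B B' (A 1 j) * y (Finsupp.single j 1) := by
    have h2 := LinearMap.congr_fun hxy 1
    rw [LinearMap.toSpanSingleton_apply, one_smul, LinearMap.comp_apply] at h2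
    rw [h2]
    conv_lhs => rw [← Finsupp.univ_sum_single (A 1), map_sum]
    refine Finset.sum_congr rfl fun j _ => ?_
    rw [← Finsupp.smul_single_one, map_smul, Algebra.smul_def]
  have hy : ∀ j, ∃ b : B, algebraMap B B' (A 1 j) * y (Finsupp.single j 1) =
      algebraMap B B' (A 1 j * b) := by
    intro j
    obtain ⟨b, hb⟩ := h.surj m (y (Finsupp.single j 1))
    obtain ⟨z, hz⟩ := mem_map_span_range.mp (Ideal.map_mono hm hb)
    refine ⟨b, ?_⟩
    rw [map_mul, ← sub_eq_zero, ← mul_sub, ← hz, Finset.mul_sum]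
    refine Finset.sum_eq_zero fun k _ => ?_
    rw [mul_left_comm, ← map_mul, mul_comm _ (g k), hA, map_zero, mul_zero]
  choose b hb using hy
  exact ⟨∑ j, A 1 j * b j, by rw [h1, map_sum]; exact Finset.sum_congr rfl fun j _ => (hb j).symm⟩

/-- Elements whose `g`-multiples come from `B` come from `B`. -/
theorem mem_range_of_mul_mem (h : IsFormalCompl B B' a) [IsNoetherianRing B] {m : ℕ}
    (hm : a ^ m ≤ Ideal.span (Set.range g)) {x : B'}
    (hx : ∀ k, algebraMap B B' (g k) * x ∈ (algebraMap B B').range) :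
    x ∈ (algebraMap B B').range := by
  classical
  choose c hc using hx
  let δ : B →ₗ[B] (κ → B) := LinearMap.toSpanSingleton B _ g
  have hq : (LinearMap.range δ).mkQ c ∈ (⨅ i : ℕ, a ^ i • ⊤ : Submodule B _) := by
    refine (Submodule.mem_iInf _).mpr fun i => ?_
    obtain ⟨b, hb⟩ := h.surj i x
    have h1 : c - δ b ∈ a ^ i • (⊤ : Submodule B (κ → B)) := by
      rw [← Finset.univ_sum_single (c - δ b)]
      refine Submodule.sum_mem _ fun k _ => ?_
      rw [← mul_one ((c - δ b) k), ← smul_eq_mul, Pi.single_smul']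
      refine Submodule.smul_mem_smul (h.inj i _ ?_) Submodule.mem_top
      simp only [Pi.sub_apply, δ, LinearMap.toSpanSingleton_apply, Pi.smul_apply, smul_eq_mul,
        map_sub, map_mul, hc]
      rw [mul_comm (algebraMap B B' b), ← mul_sub]
      exact Ideal.mul_mem_left _ _ hb
    have h2 := Submodule.mem_map_of_mem (f := (LinearMap.range δ).mkQ) h1
    rwa [Submodule.map_smul'', Submodule.map_top, Submodule.range_mkQ, map_sub,
      show (LinearMap.range δ).mkQ (δ b) = 0 from (Submodule.Quotient.mk_eq_zero _).mpr ⟨b, rfl⟩,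
      sub_zero] at h2
  obtain ⟨⟨r, hr⟩, hrq⟩ := (a.mem_iInf_smul_pow_eq_bot_iff _).mp hq
  have hmem : (1 - r) • c ∈ LinearMap.range δ := by
    rw [← Submodule.Quotient.mk_eq_zero]
    change (LinearMap.range δ).mkQ ((1 - r) • c) = 0
    rw [map_smul, sub_smul, one_smul, sub_eq_zero]
    exact hrq.symm
  obtain ⟨b, hb⟩ := hmem
  have htor : algebraMap B B' (1 - r) * x - algebraMap B B' b ∈ (algebraMap B B').range := by
    refine mem_range_of_mul_eq_zero h hm fun k => ?_
    have := congrArg (algebraMap B B') (congrFun hb k)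
    simp only [δ, LinearMap.toSpanSingleton_apply, Pi.smul_apply, smul_eq_mul, map_mul, hc] at this
    linear_combination -this
  obtain ⟨b2, hb2⟩ := htor
  obtain ⟨z, hz⟩ := (Ideal.mem_span_range_iff_exists_fun).mp (hm (Ideal.pow_mem_pow hr m))
  refine ⟨(∑ i ∈ Finset.range m, r ^ i) * (b2 + b) + ∑ k, z k * c k, ?_⟩
  rw [map_add, map_mul, map_add, hb2, sub_add_cancel, ← mul_assoc, ← map_mul, geom_sum_mul_neg,
    map_sum]
  simp only [map_mul, hc, ← mul_assoc]
  rw [← Finset.sum_mul, ← add_mul]
  simp only [← map_mul]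
  rw [← map_sum, hz, ← map_add, sub_add_cancel, map_one, one_mul]

/-- A ring map inducing bijections modulo all powers, into a complete ring, identifies it with the
completion. -/
theorem exists_equiv_adicCompletion {D C : Type u} [CommRing D] [CommRing C] (ψ : D →+* C)
    (I : Ideal D) (hsurj : ∀ (n : ℕ) (c : C), ∃ d, c - ψ d ∈ (I ^ n).map ψ)
    (hinj : ∀ (n : ℕ) (d : D), ψ d ∈ (I ^ n).map ψ → d ∈ I ^ n)
    (haus : ∀ c : C, (∀ n, c ∈ (I ^ n).map ψ) → c = 0)
    (hprec : ∀ x : ℕ → C, (∀ n, x (n + 1) - x n ∈ (I ^ n).map ψ) →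
      ∃ l, ∀ n, x n - l ∈ (I ^ n).map ψ) :
    ∃ e : C ≃+* AdicCompletion I D, ∀ d, e (ψ d) = algebraMap D _ d := by
  classical
  have hbij : ∀ n, Function.Bijective
      (Ideal.quotientMap ((I ^ n).map ψ) ψ Ideal.le_comap_map) := by
    refine fun n => ⟨Ideal.quotientMap_injective' fun d hd => hinj n d hd, fun y => ?_⟩
    obtain ⟨c, rfl⟩ := Ideal.Quotient.mk_surjective y
    obtain ⟨d, hd⟩ := hsurj n c
    exact ⟨Ideal.Quotient.mk _ d, by
      rw [Ideal.quotientMap_mk]; exact (Ideal.Quotient.eq.mpr hd).symm⟩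
  let f : (n : ℕ) → C →+* D ⧸ I ^ n := fun n =>
    ((RingEquiv.ofBijective _ (hbij n)).symm.toRingHom).comp (Ideal.Quotient.mk _)
  have hf0 : ∀ n c d, c - ψ d ∈ (I ^ n).map ψ → f n c = Ideal.Quotient.mk _ d := by
    intro n c d h
    simp only [f, RingHom.comp_apply, RingEquiv.toRingHom_eq_coe, RingEquiv.coe_toRingHom,
      RingEquiv.symm_apply_eq, RingEquiv.ofBijective_apply, Ideal.quotientMap_mk]
    exact Ideal.Quotient.eq.mpr h
  have hf : ∀ {m n : ℕ} (hle : m ≤ n), (Ideal.Quotient.factorPow I hle).comp (f n) = f m := by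
    intro m n hle
    ext c
    obtain ⟨d, hd⟩ := hsurj n c
    rw [RingHom.comp_apply, hf0 n c d hd, hf0 m c d (Ideal.map_mono (Ideal.pow_le_pow_right hle) hd)]
    rfl
  let G := AdicCompletion.liftRingHom I f hf
  have hG : ∀ n c, AdicCompletion.evalₐ I n (G c) = f n c := fun n c =>
    AdicCompletion.evalₐ_liftRingHom I f hf n c
  have hGinj : Function.Injective G := by
    rw [injective_iff_map_eq_zero]
    intro c hc
    refine haus c fun n => ?_
    obtain ⟨d, hd⟩ := hsurj n c
    have h := hG n c
    rw [hc, map_zero, hf0 n c d hd, eq_comm, Ideal.Quotient.eq_zero_iff_mem] at h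
    simpa using add_mem hd (Ideal.mem_map_of_mem ψ h)
  have hGsurj : Function.Surjective G := by
    intro x
    have hx : ∀ n, ∃ d, Ideal.Quotient.mk (I ^ n) d = AdicCompletion.evalₐ I n x := fun n =>
      Ideal.Quotient.mk_surjective _
    choose d hd using hx
    have hcompat : ∀ n, d (n + 1) - d n ∈ I ^ n := by
      intro n
      rw [← Ideal.Quotient.eq, hd n]
      have := hd (n + 1)
      obtain ⟨y, rfl⟩ := AdicCompletion.mk_surjective I D x
      rw [AdicCompletion.evalₐ_mk] at this ⊢
      rw [Ideal.Quotient.eq] at this ⊢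
      have h2 : (y : ℕ → D) n - (y : ℕ → D) (n + 1) ∈ I ^ n := by
        have := y.2 (Nat.le_succ n)
        rwa [SModEq.sub_mem, smul_eq_mul, Ideal.mul_top] at this
      have := sub_mem (Ideal.pow_le_pow_right (Nat.le_succ n) this) h2
      simpa [sub_sub_sub_cancel_right] using this
    obtain ⟨l, hl⟩ := hprec (fun n => ψ (d n)) fun n => by
      rw [← map_sub]; exact Ideal.mem_map_of_mem ψ (hcompat n)
    refine ⟨l, AdicCompletion.ext_evalₐ fun n => ?_⟩
    rw [hG, hf0 n l (d n) (by rw [← neg_sub]; exact neg_mem (hl n)), hd]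
  refine ⟨RingEquiv.ofBijective G ⟨hGinj, hGsurj⟩, fun d => AdicCompletion.ext_evalₐ fun n => ?_⟩
  rw [RingEquiv.ofBijective_apply, hG, hf0 n (ψ d) d (by simp)]
  exact (AlgHom.commutes _ d).symm

end GrothLib.ComplAlg
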