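/-
A quotient `C = B^/J` with `J/J²` killed by a power of `I` is the completion of a finite type algebra.
-/
import Groth.Agent.Lib.ComplAlg.Basic
import Mathlib.RingTheory.AdicCompletion.Completeness
import Mathlib.RingTheory.Finiteness.Ideal
import Mathlib.RingTheory.Localization.AtPrime.Basic
import Mathlib.RingTheory.Localization.InvSubmonoid

set_option autoImplicit false

namespace GrothLib.ComplAlg

universe u

open Polynomial

/-- The completion of a Noetherian ring is a formal completion in our sense. -/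
theorem isFormalCompl_adicCompletion {B : Type u} [CommRing B] [IsNoetherianRing B] (a : Ideal B) :
    IsFormalCompl B (AdicCompletion a B) a := by
  have hker : ∀ (n : ℕ) (x : AdicCompletion a B),
      x ∈ (a ^ n).map (algebraMap B (AdicCompletion a B)) ↔ AdicCompletion.evalₐ a n x = 0 := by
    intro n x
    have h1 : AdicCompletion.eval a B n x = 0 ↔ AdicCompletion.evalₐ a n x = 0 := by
      rw [← AdicCompletion.factor_eval_eq_evalₐ a x (le_of_eq (Ideal.mul_top _))]
      exact (map_eq_zero_iff _ (RingEquiv.injective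
        (Ideal.quotEquivOfEq (Ideal.mul_top (a ^ n))))).symm
    rw [← h1, ← LinearMap.mem_ker, ← AdicCompletion.pow_smul_top_eq_ker_eval a.fg_of_isNoetherianRing,
      Ideal.smul_top_eq_map]
    rfl
  refine ⟨AdicCompletion.flat_of_isNoetherian a, fun n x => ?_, fun n b hb => ?_⟩
  · obtain ⟨b, hb⟩ := Ideal.Quotient.mk_surjective (AdicCompletion.evalₐ a n x)
    refine ⟨b, (hker n _).mpr ?_⟩
    rw [map_sub, AlgHom.commutes, ← hb]
    exact sub_self _
  · rw [hker, AlgHom.commutes] at hb
    exact Ideal.Quotient.eq_zero_iff_mem.mp hb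

/-- `a^N B' ≤ J + Ann J` when `a^c J ≤ J²`. -/
theorem exists_pow_le_sup_annihilator {R : Type u} [CommRing R] [IsNoetherianRing R] (a J : Ideal R)
    (c : ℕ) (h : a ^ c * J ≤ J ^ 2) :
    ∃ N : ℕ, a ^ N ≤ J ⊔ Submodule.annihilator J := by
  classical
  have hrad : a ^ c ≤ (J ⊔ Submodule.annihilator J).radical := by
    intro f hf
    let T : Module.End R J := algebraMap R (Module.End R J) f
    obtain ⟨p, hp, -, hpc, hp0⟩ :=
      LinearMap.exists_monic_and_coeff_mem_pow_and_aeval_eq_zero_of_range_le_smul R T J (by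
        rintro _ ⟨x, rfl⟩
        rw [Submodule.mem_smul_top_iff, smul_eq_mul, ← pow_two]
        exact h (Ideal.mul_mem_mul hf x.2))
    have hann : p.eval f ∈ Submodule.annihilator J := by
      rw [Submodule.mem_annihilator]
      intro x hx
      have h1 := LinearMap.congr_fun hp0 ⟨x, hx⟩
      rw [show T = algebraMap R _ f from rfl, Polynomial.aeval_algebraMap_apply,
        Polynomial.coe_aeval_eq_eval] at h1
      exact congrArg Subtype.val h1
    refine ⟨p.natDegree, ?_⟩
    rw [show f ^ p.natDegree = -(∑ k ∈ Finset.range p.natDegree, p.coeff k * f ^ k) + p.eval f by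
      rw [eval_eq_sum_range, Finset.sum_range_succ, hp.coeff_natDegree]; ring]
    refine add_mem (Submodule.mem_sup_left (neg_mem (Submodule.sum_mem _ fun k hk => ?_)))
      (Submodule.mem_sup_right hann)
    exact Ideal.mul_mem_right _ _
      (Ideal.pow_le_self (Nat.sub_ne_zero_of_lt (Finset.mem_range.mp hk)) (hpc k))
  obtain ⟨N, hN⟩ := Ideal.exists_radical_pow_le_of_fg (J ⊔ Submodule.annihilator J)
    ((J ⊔ Submodule.annihilator J).radical.fg_of_isNoetherianRing)
  exact ⟨c * N, by rw [pow_mul]; exact (Ideal.pow_right_mono hrad N).trans hN⟩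

/-- The algebraisation theorem. -/
theorem exists_finiteType_completion_equiv (A : Type u) [CommRing A] [IsNoetherianRing A] (I : Ideal A)
    (B : Type u) [CommRing B] [Algebra A B] [Algebra.FiniteType A B] (C : Type u) [CommRing C]
    (a : Ideal B) (ha : I.map (algebraMap A B) = a)
    (π : AdicCompletion a B →+* C) (hπ : Function.Surjective π) (c : ℕ)
    (hJ : a.map (algebraMap B (AdicCompletion a B)) ^ c * RingHom.ker π ≤ RingHom.ker π ^ 2) :
    ∃ (D : Type u) (_ : CommRing D) (_ : Algebra A D), Algebra.FiniteType A D ∧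
      ∃ e : C ≃+* AdicCompletion (I.map (algebraMap A D)) D,
        ∀ x : A, e (π (algebraMap B _ (algebraMap A B x))) =
          algebraMap D _ (algebraMap A D x) := by
  classical
  haveI : IsNoetherianRing B := Algebra.FiniteType.isNoetherianRing A B
  let B' := AdicCompletion a B
  haveI : IsNoetherianRing B' := GrothLib.AdicExtra.isNoetherianRing_adicCompletion a
  have hB := isFormalCompl_adicCompletion a
  let ι := algebraMap B B'
  let a' : Ideal B' := a.map ι
  haveI : IsAdicComplete a' B' := AdicCompletion.isAdicComplete_self a a.fg_of_isNoetherianRing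
  let J := RingHom.ker π
  let J' := Submodule.annihilator J
  obtain ⟨N, hN⟩ := exists_pow_le_sup_annihilator a' J c hJ
  obtain ⟨s, f, hf⟩ := Submodule.fg_iff_exists_fin_generating_family.mp (a ^ N).fg_of_isNoetherianRing
  have hfa : ∀ k, f k ∈ a ^ N := fun k => by
    rw [← hf]; exact Submodule.subset_span ⟨k, rfl⟩
  have hf' : a ^ N ≤ Ideal.span (Set.range f) := le_of_eq hf.symm
  have hfJ : ∀ k, ι (f k) ∈ J ⊔ J' := fun k => hN (by
    rw [← Ideal.map_pow]; exact Ideal.mem_map_of_mem ι (hfa k))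
  let g : Fin s × Fin s → B := fun kl => f kl.1 * f kl.2
  have hg : a ^ (N + N) ≤ Ideal.span (Set.range g) := by
    rw [pow_add]
    refine (Ideal.mul_mono hf' hf').trans ?_
    rw [Ideal.span_mul_span']
    refine Ideal.span_mono ?_
    rintro _ ⟨_, ⟨k, rfl⟩, _, ⟨l, rfl⟩, rfl⟩
    exact ⟨(k, l), rfl⟩
  -- the product ring
  let E := (B' ⧸ J) × (B' ⧸ J')
  let φ : B' →+* E := (Ideal.Quotient.mk J).prod (Ideal.Quotient.mk J')
  let j : B →+* E := φ.comp ι
  have hker : ∀ x, φ x = 0 → x ∈ (algebraMap B B').range := by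
    intro x hx
    have h1 : x ∈ J := Ideal.Quotient.eq_zero_iff_mem.mp (congrArg Prod.fst hx)
    have h2 : x ∈ J' := Ideal.Quotient.eq_zero_iff_mem.mp (congrArg Prod.snd hx)
    refine mem_range_of_mul_eq_zero hB hf' fun k => ?_
    obtain ⟨p, hp, q, hq, hpq⟩ := Submodule.mem_sup.mp (hfJ k)
    change ι (f k) * x = 0
    rw [← hpq, add_mul, mul_comm p x, show x * p = 0 from Submodule.mem_annihilator.mp h2 p hp,
      show q * x = 0 from Submodule.mem_annihilator.mp hq x h1, add_zero]
  have hkerf : ∀ x, φ x = 0 → ∀ k, ι (f k) * x = 0 := by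
    intro x hx k
    have h1 : x ∈ J := Ideal.Quotient.eq_zero_iff_mem.mp (congrArg Prod.fst hx)
    have h2 : x ∈ J' := Ideal.Quotient.eq_zero_iff_mem.mp (congrArg Prod.snd hx)
    obtain ⟨p, hp, q, hq, hpq⟩ := Submodule.mem_sup.mp (hfJ k)
    rw [← hpq, add_mul, mul_comm p x, show x * p = 0 from Submodule.mem_annihilator.mp h2 p hp,
      show q * x = 0 from Submodule.mem_annihilator.mp hq x h1, add_zero]
  have him : ∀ (k : Fin s) (e : E), ∃ x, φ x = j (f k) * e := by
    rintro k ⟨u, v⟩
    obtain ⟨u, rfl⟩ := Ideal.Quotient.mk_surjective u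
    obtain ⟨v, rfl⟩ := Ideal.Quotient.mk_surjective v
    obtain ⟨p, hp, q, hq, hpq⟩ := Submodule.mem_sup.mp (hfJ k)
    refine ⟨q * u + p * v, Prod.ext ?_ ?_⟩
    · change Ideal.Quotient.mk J (q * u + p * v) = Ideal.Quotient.mk J (ι (f k)) * Ideal.Quotient.mk J u
      rw [← map_mul, Ideal.Quotient.eq, ← hpq,
        show q * u + p * v - (p + q) * u = p * (v - u) by ring]
      exact J.mul_mem_right _ hp
    · change Ideal.Quotient.mk J' (q * u + p * v) =
        Ideal.Quotient.mk J' (ι (f k)) * Ideal.Quotient.mk J' v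
      rw [← map_mul, Ideal.Quotient.eq, ← hpq,
        show q * u + p * v - (p + q) * v = q * (u - v) by ring]
      exact J'.mul_mem_right _ hq
  have hrange : ∀ x : B', (∀ k, ∃ b, j (g k) * φ x = j b) → x ∈ (algebraMap B B').range := by
    intro x hx
    refine mem_range_of_mul_mem hB hg fun k => ?_
    obtain ⟨b, hb⟩ := hx k
    obtain ⟨b2, hb2⟩ := hker (ι (g k) * x - ι b) (by
      rw [map_sub, map_mul, sub_eq_zero]; exact hb)
    exact ⟨b2 + b, by rw [map_add, hb2]; exact sub_add_cancel _ _⟩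
  -- the finite algebra `E0`
  let E0 : Subalgebra B E :=
    { carrier := {e | ∀ k, ∃ b, j (g k) * e = j b}
      algebraMap_mem' := fun b k => ⟨g k * b, (map_mul j _ _).symm⟩
      add_mem' := fun {e e'} he he' k => by
        obtain ⟨b, hb⟩ := he k
        obtain ⟨b', hb'⟩ := he' k
        exact ⟨b + b', by rw [mul_add, hb, hb', map_add]⟩
      mul_mem' := fun {e e'} he he' k => by
        obtain ⟨x, hx⟩ := him k.1 (j (f k.2) * (e * e'))
        have hx' : φ x = j (g k) * (e * e') := by rw [hx, map_mul, mul_assoc]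
        obtain ⟨b, hb⟩ := hrange x fun k' => by
          obtain ⟨b, hb⟩ := he k'
          obtain ⟨b', hb'⟩ := he' k
          exact ⟨b * b', by rw [hx', map_mul j b b', ← hb, ← hb']; ring⟩
        exact ⟨b, by rw [← hx', ← hb]; rfl⟩ }
  have hE0 : ∀ e : E, ∃ β : B', e - φ β ∈ E0 := by
    intro e
    choose x hx using fun k => him k e
    have hr : ∀ k l m, ι (f m) * (ι (f l) * x k - ι (f k) * x l) = 0 := fun k l m =>
      hkerf _ (by
        rw [map_sub, map_mul, map_mul, hx, hx]
        change j (f l) * (j (f k) * e) - j (f k) * (j (f l) * e) = 0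
        ring) m
    obtain ⟨β, hβ⟩ := exists_sub_mem_range hB hg (fun kl => ι (f kl.1) * x kl.2) (by
      rintro ⟨k, l⟩ ⟨p, q⟩
      simp only [g, map_mul]
      change ι (f p) * ι (f q) * (ι (f k) * x l) = ι (f k) * ι (f l) * (ι (f p) * x q)
      linear_combination (ι (f p)) * hr l q k)
    refine ⟨β, fun kl => ?_⟩
    obtain ⟨b, hb⟩ := hβ kl
    refine ⟨b, ?_⟩
    change _ = φ (ι b)
    rw [hb, map_sub, map_mul, map_mul, hx]
    simp only [g, map_mul, j, RingHom.comp_apply]
    ring
  -- finiteness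
  let e1 : E := (1, 0)
  let e2 : E := (0, 1)
  obtain ⟨β1, hε1⟩ := hE0 e1
  obtain ⟨β2, hε2⟩ := hE0 e2
  haveI : Module.Finite B E0 := by
    refine ⟨⟨{1, ⟨_, hε1⟩, ⟨_, hε2⟩}, eq_top_iff.mpr ?_⟩⟩
    rintro ⟨⟨u, v⟩, he⟩ -
    obtain ⟨P, rfl⟩ := Ideal.Quotient.mk_surjective u
    obtain ⟨Q, rfl⟩ := Ideal.Quotient.mk_surjective v
    have hdec : ∀ (P : B') (ε : E), ε ∈ E0 → ∃ (p : B) (x : B'), φ P * ε = j p * ε + φ x := by
      intro P ε hε
      obtain ⟨p, hp⟩ := hB.surj (N + N) P
      obtain ⟨z, hz⟩ := mem_map_span_range.mp (Ideal.map_mono hg hp)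
      choose bb hbb using hε
      refine ⟨p, ∑ k, z k * ι (bb k), ?_⟩
      rw [show P = ι p + ∑ k, z k * ι (g k) by rw [hz]; ring, map_add, add_mul, map_sum, map_sum,
        Finset.sum_mul]
      congr 1
      refine Finset.sum_congr rfl fun k _ => ?_
      rw [map_mul φ (z k), map_mul φ (z k), mul_assoc]
      exact congrArg _ (hbb k)
    obtain ⟨p, x1, h1⟩ := hdec P _ hε1
    obtain ⟨q, x2, h2⟩ := hdec Q _ hε2
    have he' : ((Ideal.Quotient.mk J P, Ideal.Quotient.mk J' Q) : E) =
        j p * (e1 - φ β1) + j q * (e2 - φ β2) + φ (P * β1 + Q * β2 + x1 + x2) := by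
      have h3 : ((Ideal.Quotient.mk J P, Ideal.Quotient.mk J' Q) : E) = φ P * e1 + φ Q * e2 := by
        refine Prod.ext ?_ ?_
        · change _ = Ideal.Quotient.mk J P * 1 + Ideal.Quotient.mk J Q * 0
          simp
        · change _ = Ideal.Quotient.mk J' P * 0 + Ideal.Quotient.mk J' Q * 1
          simp
      rw [h3, map_add, map_add, map_add, map_mul, map_mul]
      linear_combination h1 + h2
    obtain ⟨b, hb⟩ := hrange (P * β1 + Q * β2 + x1 + x2) (by
      have h5 : j p * (e1 - φ β1) + j q * (e2 - φ β2) ∈ E0 :=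
        add_mem (mul_mem (E0.algebraMap_mem p) hε1) (mul_mem (E0.algebraMap_mem q) hε2)
      have h6 := sub_mem (he' ▸ he) h5
      rwa [add_sub_cancel_left] at h6)
    have h4 : (⟨_, he⟩ : E0) = p • (⟨_, hε1⟩ : E0) + q • (⟨_, hε2⟩ : E0) + b • (1 : E0) := by
      refine Subtype.ext ?_
      change ((Ideal.Quotient.mk J P, Ideal.Quotient.mk J' Q) : E) = p • (e1 - φ β1) + q • (e2 - φ β2) + b • (1 : E)
      rw [he', Algebra.smul_def, Algebra.smul_def, Algebra.smul_def, mul_one, ← hb]
      rfl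
    rw [h4]
    refine add_mem (add_mem ?_ ?_) ?_ <;>
      exact Submodule.smul_mem _ _ (Submodule.subset_span (by simp))
  -- ideals
  let aE : Ideal E := a.map j
  let a0 : Ideal E0 := a.map (algebraMap B E0)
  have haE : ∀ n, (a ^ n).map j = aE ^ n := fun n => Ideal.map_pow _ _ _
  have hmod : ∀ (n : ℕ) (e : E0), (e : E) ∈ aE ^ n → e ∈ a0 ^ n := by
    intro n
    suffices H : ∀ e : E, e ∈ (a ^ n).map j →
        ∀ u : E, ∃ ε ∈ a0 ^ n, ∃ x ∈ (a ^ n).map ι, u * e = (ε : E) + φ x by
      intro e he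
      obtain ⟨ε, hε, x, hx, hex⟩ := H _ (by rw [haE]; exact he) 1
      rw [one_mul] at hex
      obtain ⟨b, rfl⟩ := hrange x (by
        have h6 := sub_mem e.2 ε.2
        rwa [hex, add_sub_cancel_left] at h6)
      have hb : b ∈ a ^ n := hB.inj n b hx
      rw [show e = ε + algebraMap B E0 b from Subtype.ext hex, ← Ideal.map_pow]
      exact add_mem (by rw [Ideal.map_pow]; exact hε) (Ideal.mem_map_of_mem _ hb)
    intro e he
    rw [Ideal.map] at he
    induction he using Submodule.span_induction with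
    | mem e he =>
      obtain ⟨t, ht, rfl⟩ := he
      intro u
      obtain ⟨β, hβ⟩ := hE0 u
      refine ⟨algebraMap B E0 t * ⟨_, hβ⟩, ?_, ι t * β,
        Ideal.mul_mem_right _ _ (Ideal.mem_map_of_mem ι ht), ?_⟩
      · rw [← Ideal.map_pow]
        exact Ideal.mul_mem_right _ _ (Ideal.mem_map_of_mem _ ht)
      · change u * φ (ι t) = φ (ι t) * (u - φ β) + φ (ι t * β)
        rw [map_mul]
        ring
    | zero => exact fun u => ⟨0, zero_mem _, 0, zero_mem _, by simp⟩
    | add e e' _ _ he he' =>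
      intro u
      obtain ⟨ε, hε, x, hx, hex⟩ := he u
      obtain ⟨ε', hε', x', hx', hex'⟩ := he' u
      exact ⟨ε + ε', add_mem hε hε', x + x', add_mem hx hx', by
        rw [mul_add, hex, hex', map_add]; push_cast; abel⟩
    | smul r e _ he =>
      intro u
      obtain ⟨ε, hε, x, hx, hex⟩ := he (u * r)
      exact ⟨ε, hε, x, hx, by rw [smul_eq_mul, ← mul_assoc, hex]⟩
  have hsurE : ∀ (n : ℕ) (u : E), ∃ e : E0, u - (e : E) ∈ aE ^ n := by
    intro n u
    obtain ⟨β, hβ⟩ := hE0 u
    obtain ⟨b, hb⟩ := hB.surj n β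
    refine ⟨⟨_, hβ⟩ + algebraMap B E0 b, ?_⟩
    change u - (u - φ β + φ (ι b)) ∈ _
    rw [show u - (u - φ β + φ (ι b)) = φ (β - ι b) by rw [map_sub]; abel, ← haE, ← Ideal.map_map]
    exact Ideal.mem_map_of_mem φ hb
  -- localise at an approximation of the idempotent
  obtain ⟨h, hh⟩ := hsurE 1 e1
  rw [pow_one] at hh
  let aC : Ideal (B' ⧸ J) := a'.map (Ideal.Quotient.mk J)
  let p1 : E0 →+* B' ⧸ J := (RingHom.fst _ _).comp E0.val.toRingHom
  have hfst : aE.map (RingHom.fst (B' ⧸ J) (B' ⧸ J')) = aC := by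
    simp only [aE, aC, a', Ideal.map_map]
    rfl
  have hsnd : aE.map (RingHom.snd (B' ⧸ J) (B' ⧸ J')) = a'.map (Ideal.Quotient.mk J') := by
    simp only [aE, a', Ideal.map_map]
    rfl
  have hunit : IsUnit (p1 h) := by
    have h1 : (1 : B' ⧸ J) - p1 h ∈ aC := by rw [← hfst]; exact Ideal.mem_map_of_mem _ hh
    obtain ⟨y, hy, hy'⟩ := (Ideal.mem_map_iff_of_surjective _ Ideal.Quotient.mk_surjective).mp h1
    rw [show p1 h = Ideal.Quotient.mk J (1 - y) by rw [map_sub, map_one, hy', sub_sub_cancel]]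
    refine IsUnit.map _ ?_
    have := Ideal.mem_jacobson_bot.mp (IsAdicComplete.le_jacobson_bot a' hy) (-1)
    simpa [mul_neg_one, sub_eq_neg_add] using this
  let D := Localization.Away h
  let algAD : A →+* D := (algebraMap E0 D).comp ((algebraMap B E0).comp (algebraMap A B))
  letI : Algebra A D := algAD.toAlgebra
  have hft : Algebra.FiniteType A D := by
    have h1 : (algebraMap A B).FiniteType := RingHom.finiteType_algebraMap.mpr inferInstance
    have h2 : (algebraMap B E0).FiniteType := RingHom.finiteType_algebraMap.mpr inferInstance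
    haveI : Algebra.FiniteType E0 D := IsLocalization.finiteType_of_monoid_fg (Submonoid.powers h) D
    have h3 : (algebraMap E0 D).FiniteType := RingHom.finiteType_algebraMap.mpr inferInstance
    exact h3.comp (h2.comp h1)
  let ψ : D →+* B' ⧸ J := IsLocalization.Away.lift h (g := p1) hunit
  have hψ : ∀ x, ψ (algebraMap E0 D x) = p1 x := fun x => IsLocalization.Away.lift_eq h hunit x
  have hID : I.map (algebraMap A D) = a0.map (algebraMap E0 D) := by
    simp only [a0, ← ha, Ideal.map_map]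
    rfl
  have hψI : ∀ n, ((I.map (algebraMap A D)) ^ n).map ψ = aC ^ n := by
    intro n
    rw [Ideal.map_pow, hID, Ideal.map_map]
    congr 1
    rw [show ψ.comp (algebraMap E0 D) = p1 from RingHom.ext hψ]
    simp only [a0, aC, a', Ideal.map_map]
    rfl
  have hprod : ∀ (n : ℕ) (e : E), e.1 ∈ aC ^ n → e.2 ∈ (a'.map (Ideal.Quotient.mk J')) ^ n →
      e ∈ aE ^ n := by
    intro n e he1 he2
    rw [← Ideal.map_pow] at he1 he2
    obtain ⟨y1, hy1, hy1'⟩ := (Ideal.mem_map_iff_of_surjective _ Ideal.Quotient.mk_surjective).mp he1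
    obtain ⟨y2, hy2, hy2'⟩ := (Ideal.mem_map_iff_of_surjective _ Ideal.Quotient.mk_surjective).mp he2
    have hm : ∀ y ∈ a' ^ n, φ y ∈ aE ^ n := fun y hy => by
      have h7 := Ideal.mem_map_of_mem φ hy
      rwa [Ideal.map_pow, Ideal.map_map] at h7
    rw [show e = φ y1 * e1 + φ y2 * e2 by
      refine Prod.ext ?_ ?_
      · change _ = Ideal.Quotient.mk J y1 * 1 + Ideal.Quotient.mk J y2 * 0
        simp [hy1']
      · change _ = Ideal.Quotient.mk J' y1 * 0 + Ideal.Quotient.mk J' y2 * 1
        simp [hy2']]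
    exact add_mem (Ideal.mul_mem_right _ _ (hm y1 hy1)) (Ideal.mul_mem_right _ _ (hm y2 hy2))
  obtain ⟨eC, heC⟩ := exists_equiv_adicCompletion ψ (I.map (algebraMap A D))
    (fun n cc => by
      obtain ⟨e, he⟩ := hsurE n (cc, 0)
      refine ⟨algebraMap E0 D e, ?_⟩
      rw [hψ, hψI, ← hfst, ← Ideal.map_pow]
      exact Ideal.mem_map_of_mem (RingHom.fst (B' ⧸ J) (B' ⧸ J')) he)
    (fun n d hd => by
      obtain ⟨k, e, he⟩ := IsLocalization.Away.surj h d
      rw [hψI] at hd
      have he' : p1 e ∈ aC ^ n := by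
        rw [← hψ, ← he, map_mul]
        exact Ideal.mul_mem_right _ _ hd
      have h1 : ((e * h ^ n : E0) : E) ∈ aE ^ n := by
        refine hprod n _ ?_ ?_
        · change p1 (e * h ^ n) ∈ _
          rw [map_mul]
          exact Ideal.mul_mem_right _ _ he'
        · change (e : E).2 * (h : E).2 ^ n ∈ _
          refine Ideal.mul_mem_left _ _ (Ideal.pow_mem_pow ?_ n)
          rw [← hsnd]
          have h2 := Ideal.mem_map_of_mem (RingHom.snd (B' ⧸ J) (B' ⧸ J')) hh
          have h5 : (0 : B' ⧸ J') - (h : E).2 ∈ aE.map (RingHom.snd (B' ⧸ J) (B' ⧸ J')) := h2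
          simpa using neg_mem h5
      have h3 : d * algebraMap E0 D h ^ (k + n) ∈ (I.map (algebraMap A D)) ^ n := by
        rw [hID, ← Ideal.map_pow, pow_add, ← mul_assoc, ← map_pow, ← map_pow, map_pow, map_pow,
          he, ← map_pow, ← map_mul]
        exact Ideal.mem_map_of_mem _ (hmod n _ h1)
      exact (Ideal.mul_unit_mem_iff_mem _
        ((IsLocalization.Away.algebraMap_isUnit (S := D) h).pow (k + n))).mp h3)
    (fun x hx => by
      have h1 : x ∈ (⨅ i : ℕ, aC ^ i • ⊤ : Submodule (B' ⧸ J) (B' ⧸ J)) :=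
        (Submodule.mem_iInf _).mpr fun i => by
          rw [smul_eq_mul, Ideal.mul_top, ← hψI]
          exact hx i
      obtain ⟨⟨r, hr⟩, hrx⟩ := (aC.mem_iInf_smul_pow_eq_bot_iff _).mp h1
      obtain ⟨y, hy, rfl⟩ := (Ideal.mem_map_iff_of_surjective _ Ideal.Quotient.mk_surjective).mp hr
      have hu : IsUnit (Ideal.Quotient.mk J (1 - y)) := IsUnit.map _ (by
        have := Ideal.mem_jacobson_bot.mp (IsAdicComplete.le_jacobson_bot a' hy) (-1)
        simpa [mul_neg_one, sub_eq_neg_add] using this)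
      refine hu.mul_right_eq_zero.mp ?_
      simp only [smul_eq_mul] at hrx
      rw [map_sub, map_one, sub_mul, one_mul, hrx, sub_self])
    (fun x hx => by
      choose y hy using fun n => Ideal.Quotient.mk_surjective (x (n + 1) - x n)
      have hx' : ∀ n, ∃ z ∈ a' ^ n, Ideal.Quotient.mk J z = x (n + 1) - x n := fun n => by
        have h1 := hx n
        rw [hψI, ← Ideal.map_pow] at h1
        exact (Ideal.mem_map_iff_of_surjective _ Ideal.Quotient.mk_surjective).mp h1
      choose z hz hzx using hx'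
      obtain ⟨y0, hy0⟩ := Ideal.Quotient.mk_surjective (x 0)
      let Y : ℕ → B' := fun n => y0 + ∑ i ∈ Finset.range n, z i
      obtain ⟨L, hL⟩ := IsPrecomplete.prec' (I := a') (M := B') Y (fun {m n} hmn => by
        rw [SModEq.sub_mem, smul_eq_mul, Ideal.mul_top]
        simp only [Y, add_sub_add_left_eq_sub]
        rw [← neg_sub, ← Finset.sum_Ico_eq_sub _ hmn]
        exact neg_mem (Submodule.sum_mem _ fun i hi =>
          Ideal.pow_le_pow_right (Finset.mem_Ico.mp hi).1 (hz i)))
      refine ⟨Ideal.Quotient.mk J L, fun n => ?_⟩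
      have h1 := hL n
      rw [SModEq.sub_mem, smul_eq_mul, Ideal.mul_top] at h1
      have h2 : x n = Ideal.Quotient.mk J (Y n) := by
        simp only [Y, map_add, map_sum, hzx, hy0, Finset.sum_range_sub]
        abel
      rw [hψI, ← Ideal.map_pow, h2, ← map_sub]
      exact Ideal.mem_map_of_mem _ h1)
  refine ⟨D, inferInstance, algAD.toAlgebra, hft,
    (RingHom.quotientKerEquivOfSurjective hπ).symm.trans eC, fun x => ?_⟩
  change eC ((RingHom.quotientKerEquivOfSurjective hπ).symm (π (ι (algebraMap A B x)))) = _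
  rw [RingHom.quotientKerEquivOfSurjective_symm_apply]
  rw [show Ideal.Quotient.mk (RingHom.ker π) (ι (algebraMap A B x)) =
    ψ (algebraMap E0 D (algebraMap B E0 (algebraMap A B x))) by rw [hψ]; rfl, heC]
  rfl

end GrothLib.ComplAlg
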